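import Cfsg.Agent.PSL2Rec.FromTI

/-! Permutation groups of degree `p + 1` with a point stabiliser normalising a `p`-group. -/

set_option autoImplicit false

namespace Cfsg.Agent.PSL2Rec

open MulAction Subgroup

variable {G Ω : Type*} [Group G] [MulAction G Ω] {a b : Ω} {P : Subgroup G} {w : G}

theorem ZData.card_dvd [Finite G] (h : ZData G a b P w) :
    Nat.card ↥(stabilizer G a ⊓ stabilizer G b) ∣ Nat.card P - 1 := by
  classical
  let inst : MulAction ↥(stabilizer G a ⊓ stabilizer G b) {x : P // x ≠ 1} :=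
    { smul := fun k x => ⟨⟨k * x.1 * (k : G)⁻¹, h.norm k k.2 _ x.1.2⟩, fun e => x.2 (Subtype.ext (by
        simpa using congrArg Subtype.val e))⟩
      one_smul := fun x => Subtype.ext (Subtype.ext (by
        change ((1 : ↥(stabilizer G a ⊓ stabilizer G b)) : G) * x.1 *
          ((1 : ↥(stabilizer G a ⊓ stabilizer G b)) : G)⁻¹ = x.1
        simp))
      mul_smul := fun k l x => Subtype.ext (Subtype.ext (by
        change ((k * l : ↥(stabilizer G a ⊓ stabilizer G b)) : G) * x.1 *
          ((k * l : ↥(stabilizer G a ⊓ stabilizer G b)) : G)⁻¹ =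
          k * (l * x.1 * (l : G)⁻¹) * (k : G)⁻¹
        simp [mul_assoc])) }
  have h1 := Char.card_dvd_of_free (H := ↥(stabilizer G a ⊓ stabilizer G b))
    (X := {x : P // x ≠ 1}) (fun x => by
      rw [eq_bot_iff]
      intro k hk
      exact Subtype.ext ((h.semi k k.2 _ x.1.2 (congrArg (fun y : {x : P // x ≠ 1} => ((y.1 : P) : G))
        hk)).resolve_right fun e => x.2 (Subtype.ext e)))
  have := Fintype.ofFinite P
  rwa [Nat.card_eq_fintype_card (α := {x : P // x ≠ 1}), Fintype.card_subtype_compl,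
    Fintype.card_subtype_eq, ← Nat.card_eq_fintype_card] at h1

/-- With an abelian two-point stabiliser of even order, recognition applies. -/
theorem ZData.recognition_of_even [Finite G] (h : ZData G a b P w) {F : Type*} [Field F] [Fintype F]
    (hF : Fintype.card F = Nat.card P) (h3 : 3 < Fintype.card F)
    (hK : ∀ k ∈ stabilizer G a ⊓ stabilizer G b, ∀ l ∈ stabilizer G a ⊓ stabilizer G b,
      k * l = l * k) (heven : Even (Nat.card ↥(stabilizer G a ⊓ stabilizer G b))) :
    (Nonempty (G ≃* (GL (Fin 2) F ⧸ Subgroup.center (GL (Fin 2) F))) ∧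
        Odd (Fintype.card F) ∧
        Nat.card ↥(stabilizer G a ⊓ stabilizer G b) + 1 = Fintype.card F) ∨
      (Nonempty (G ≃* Matrix.ProjectiveSpecialLinearGroup (Fin 2) F) ∧
        Nat.gcd 2 (Fintype.card F - 1) * Nat.card ↥(stabilizer G a ⊓ stabilizer G b) + 1 =
          Fintype.card F) := by
  have hP : P ≠ ⊥ := (one_lt_card_iff_ne_bot P).1 (by omega)
  obtain ⟨v, hv, hva, hvb, hc⟩ := h.exists_swap hP heven
  obtain ⟨z, hz, hz1, hz2⟩ := ZData.exists_involution heven
  obtain ⟨x, hx, hx1⟩ := (bot_or_exists_ne_one P).resolve_left hP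
  let K₀ : Subgroup G :=
    { carrier := {k | k ∈ stabilizer G a ⊓ stabilizer G b ∧ v * k * v⁻¹ = k⁻¹}
      one_mem' := ⟨one_mem _, by simp⟩
      mul_mem' := by
        rintro k l ⟨hk, hk'⟩ ⟨hl, hl'⟩
        refine ⟨mul_mem hk hl, ?_⟩
        rw [hK k hk l hl, mul_inv_rev, ← hk', ← hl', ← hK k hk l hl]
        group
      inv_mem' := by
        rintro k ⟨hk, hk'⟩
        exact ⟨inv_mem hk, by rw [← conj_inv, hk']⟩ }
  refine (h.of_swap hva hvb).recognition hF h3 hK (K₀ := K₀) (fun k hk => hk.1) (hc.trans ?_)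
    (fun k hk => hk.2) hx hx1 (fun y hy => Char.comm_of_inverts (h.inverts hz hz1 hz2) y hy x hx)
  have := Nat.card_le_card_of_injective (fun k : {k : ↥(stabilizer G a ⊓ stabilizer G b) //
    v * k * v⁻¹ = (k : G)⁻¹} => (⟨k.1, k.1.2, k.2⟩ : K₀)) (fun k l e =>
      Subtype.ext (Subtype.ext (congrArg (fun x : K₀ => (x : G)) e)))
  omega

theorem exists_zdata_of_prime [Finite G] [FaithfulSMul G Ω] {p : ℕ} [hp : Fact p.Prime]
    (hΩ : Nat.card Ω = p + 1) (hP : IsPGroup p P) (hP1 : P ≠ ⊥) (hfix : ∀ x ∈ P, x • a = a)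
    (hnorm : ∀ g : G, g • a = a → ∀ x ∈ P, g * x * g⁻¹ ∈ P) {g : G} (hg : g • a ≠ a) :
    ∃ (b : Ω) (w : G), ZData G a b P w ∧ Nat.card P = p ∧
      ∀ k ∈ stabilizer G a ⊓ stabilizer G b, ∀ l ∈ stabilizer G a ⊓ stabilizer G b,
        k * l = l * k := by
  classical
  have : Finite Ω := Nat.finite_of_card_ne_zero (by omega)
  have hfree : ∀ b, b ≠ a → ∀ x ∈ P, x • b = b → x = 1 := by
    intro b hb x hx hxb
    have h1 := (hP.to_le (zpowers_le.2 hx)).card_modEq_card_fixedPoints Ω
    have h2 : Nat.card (fixedPoints (zpowers x) Ω) ≤ Nat.card Ω := Finite.card_subtype_le _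
    have h3 : ∀ c, x • c = c → c ∈ fixedPoints (zpowers x) Ω := by
      rintro c hc ⟨_, n, rfl⟩
      exact (stabilizer G c).zpow_mem hc n
    have h4 : 1 < Nat.card (fixedPoints (zpowers x) Ω) :=
      Finite.one_lt_card_iff_nontrivial.2 ⟨⟨b, h3 b hxb⟩, ⟨a, h3 a (hfix x hx)⟩, by simpa using hb⟩
    have h5 := (Nat.modEq_iff_dvd' h2).1 h1.symm
    have h6 : Nat.card (fixedPoints (zpowers x) Ω) = Nat.card Ω := by
      have := Nat.eq_zero_of_dvd_of_lt h5 (by omega)
      omega
    have h7 := (Nat.bijective_iff_injective_and_card (Subtype.val : fixedPoints (zpowers x) Ω → Ω)).2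
      ⟨Subtype.val_injective, h6⟩
    apply eq_of_smul_eq_smul (α := Ω)
    intro c
    obtain ⟨⟨c, hc⟩, rfl⟩ := h7.2 c
    rw [one_smul]
    exact hc ⟨x, mem_zpowers x⟩
  have hne : ∀ b, b ≠ a → ∀ x ∈ P, x • b ≠ a := fun b hb x hx e =>
    hb (smul_left_cancel x (e.trans (hfix x hx).symm))
  set b := g • a with hb
  let f : P → {c : Ω // c ≠ a} := fun x => ⟨(x : G) • b, hne b hg x x.2⟩
  have hf : Function.Injective f := fun x y e => by
    have e' : (x : G) • b = (y : G) • b := congrArg Subtype.val e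
    have := hfree b hg _ (mul_mem (inv_mem y.2) x.2) (by rw [mul_smul, e', inv_smul_smul])
    exact Subtype.ext (inv_mul_eq_one.1 this).symm
  have := Fintype.ofFinite Ω
  have hc : Nat.card {c : Ω // c ≠ a} = p := by
    rw [Nat.card_eq_fintype_card, Fintype.card_subtype_compl, Fintype.card_subtype_eq,
      ← Nat.card_eq_fintype_card, hΩ, Nat.add_sub_cancel]
  have hPc : Nat.card P = p := by
    refine le_antisymm (hc ▸ Nat.card_le_card_of_injective f hf) (Nat.le_of_dvd Nat.card_pos ?_)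
    exact hP.card_eq_or_dvd.resolve_left ((one_lt_card_iff_ne_bot P).2 hP1).ne'
  have htr : ∀ y, y ≠ a → ∃ x ∈ P, x • b = y := fun y hy => by
    obtain ⟨x, hx⟩ := ((Nat.bijective_iff_injective_and_card f).2 ⟨hf, hPc.trans hc.symm⟩).2 ⟨y, hy⟩
    exact ⟨x, x.2, congrArg Subtype.val hx⟩
  have hgen : ∀ x ∈ P, x ≠ 1 → ∀ y ∈ P, ∃ n : ℤ, x ^ n = y := fun x hx hx1 y hy => by
    obtain ⟨n, hn⟩ := mem_zpowers_of_prime_card hPc (g := ⟨x, hx⟩) (g' := ⟨y, hy⟩)
      (fun e => hx1 (congrArg Subtype.val e))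
    exact ⟨n, congrArg Subtype.val hn⟩
  obtain ⟨u, hu, hu'⟩ := htr (g⁻¹ • a) (fun e => hg (by rw [hb]; nth_rewrite 1 [← e]; simp))
  have hZ : ZData G a b P (g * u) := by
    refine ⟨Ne.symm hg, hfix, hnorm, htr, hfree b hg, fun k y hya hyb hka hkb hky => ?_,
      by rw [mul_smul, hfix u hu], by rw [mul_smul, hu', smul_inv_smul]⟩
    obtain ⟨x, hx, rfl⟩ := htr y hya
    have hx1 : x ≠ 1 := by rintro rfl; simp at hyb
    have h1 := hfree b hg _ (mul_mem (inv_mem hx) (hnorm k hka x hx)) (by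
      rw [mul_smul, mul_smul, mul_smul, show k⁻¹ • b = b from inv_smul_eq_iff.2 hkb.symm, hky,
        inv_smul_smul])
    rw [inv_mul_eq_one, eq_mul_inv_iff_mul_eq] at h1
    apply eq_of_smul_eq_smul (α := Ω)
    intro c
    rw [one_smul]
    by_cases hc : c = a
    · rw [hc, hka]
    · obtain ⟨y, hy, rfl⟩ := htr c hc
      obtain ⟨n, rfl⟩ := hgen x hx hx1 y hy
      rw [← mul_smul, ← (Commute.zpow_left h1 n).eq, mul_smul, hkb]
  refine ⟨b, g * u, hZ, hPc, fun k hk l hl => ?_⟩
  obtain ⟨x, hx, hx1⟩ := (bot_or_exists_ne_one P).resolve_left hP1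
  obtain ⟨i, hi⟩ := hgen x hx hx1 _ (hZ.norm k hk x hx)
  obtain ⟨j, hj⟩ := hgen x hx hx1 _ (hZ.norm l hl x hx)
  have := (hZ.semi ((l * k)⁻¹ * (k * l)) (mul_mem (inv_mem (mul_mem hl hk)) (mul_mem hk hl)) x hx (by
    have e1 : k * l * x * (k * l)⁻¹ = x ^ (i * j) := by
      calc k * l * x * (k * l)⁻¹ = k * (l * x * l⁻¹) * k⁻¹ := by group
        _ = _ := by rw [← hj, ← conj_zpow, ← hi, ← zpow_mul]
    have e2 : l * k * x * (l * k)⁻¹ = x ^ (i * j) := by
      calc l * k * x * (l * k)⁻¹ = l * (k * x * k⁻¹) * l⁻¹ := by group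
        _ = _ := by rw [← hi, ← conj_zpow, ← hj, ← zpow_mul, mul_comm]
    calc (l * k)⁻¹ * (k * l) * x * ((l * k)⁻¹ * (k * l))⁻¹ =
        (l * k)⁻¹ * (k * l * x * (k * l)⁻¹) * (l * k) := by group
      _ = x := by rw [e1, ← e2]; group)).resolve_right hx1
  exact (inv_mul_eq_one.1 this).symm

theorem ZData.normalizer_pairStab_le [Finite G] (h : ZData G a b P w)
    (h3 : 2 < Nat.card ↥(stabilizer G a ⊓ stabilizer G b)) :
    normalizer (pairStab G a b : Set G) ≤ pairStab G a b := by
  classical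
  intro y hy
  have key : ∀ c, (c = a ∨ c = b) → (y • c = a ∨ y • c = b) := by
    intro c hc
    by_contra hcon
    push Not at hcon
    have h1 := index_le_of_fun (⊥ : Subgroup ↥(stabilizer G a ⊓ stabilizer G b))
      (fun k => (k : G) • y • c) {y • a, y • b} (fun k l e => by
        rw [mem_bot]
        exact Subtype.ext (h.three _ _ hcon.1 hcon.2 (mul_mem (inv_mem k.2) l.2).1
          (mul_mem (inv_mem k.2) l.2).2 (by
            change ((k : G)⁻¹ * l) • y • c = y • c
            rw [mul_smul, ← show (k : G) • y • c = (l : G) • y • c from e, inv_smul_smul])))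
      (fun k => by
        have h2 : y⁻¹ * k * y ∈ pairStab G a b :=
          Local.inv_conj_mem_of_mem_normalizer hy (Or.inl k.2)
        have h4 : (k : G) • y • c = y • (y⁻¹ * k * y) • c := by simp [mul_smul]
        rw [h4]
        rcases h2 with ⟨h5, h6⟩ | ⟨h5, h6⟩ <;> rcases hc with rfl | rfl <;> simp [h5, h6])
    rw [index_bot] at h1
    have : ({y • a, y • b} : Finset Ω).card ≤ 2 := Finset.card_le_two
    omega
  have hne : y • a ≠ y • b := fun e => h.ne (smul_left_cancel _ e)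
  rcases key a (Or.inl rfl) with h1 | h1 <;> rcases key b (Or.inr rfl) with h2 | h2
  · exact absurd (h1.trans h2.symm) hne
  · exact Or.inl ⟨h1, h2⟩
  · exact Or.inr ⟨h1, h2⟩
  · exact absurd (h1.trans h2.symm) hne

/-- The normaliser of a cyclic group containing a fixed-point-free element of order three. -/
theorem ZData.card_normalizer_le [Finite G] [Finite Ω] (h : ZData G a b P w) {t : G}
    (ht : orderOf t = 3) (hta : t • a ≠ a) :
    Nat.card (normalizer (zpowers t : Set G)) ≤ 2 * Nat.card Ω := by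
  classical
  have := Fintype.ofFinite Ω
  have t3 : t * t * t = 1 := by rw [← pow_three', ← ht, pow_orderOf_eq_one]
  have h1 := index_le_of_fun (⊥ : Subgroup (normalizer (zpowers t : Set G)))
    (fun g => ((g : G) * t * (g : G)⁻¹, (g : G) • a)) ({t, t ^ 2} ×ˢ Finset.univ) (fun g g' e => by
      rw [Prod.mk.injEq] at e
      rw [mem_bot]
      apply Subtype.ext
      change (g : G)⁻¹ * g' = 1
      have e1 : (g : G)⁻¹ * g' * t = t * ((g : G)⁻¹ * g') := by
        calc (g : G)⁻¹ * g' * t = (g : G)⁻¹ * (g' * t * (g' : G)⁻¹) * g' := by group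
          _ = _ := by rw [← e.1]; group
      have e2 : ((g : G)⁻¹ * g') • a = a := by rw [mul_smul, ← e.2, inv_smul_smul]
      refine h.noThree _ a (t • a) (t • t • a) hta.symm (fun e => hta (smul_left_cancel t e).symm)
        (fun e => hta ?_) e2 ?_ ?_
      · nth_rewrite 1 [e]
        rw [← mul_smul, ← mul_smul, t3, one_smul]
      · rw [← mul_smul, e1, mul_smul, e2]
      · rw [← mul_smul, e1, mul_smul, ← mul_smul _ t, e1, mul_smul, e2])
    (fun g => by
      simp only [Finset.mem_product, Finset.mem_univ, and_true, Finset.mem_insert,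
        Finset.mem_singleton]
      have h2 := Local.conj_mem_of_mem_normalizer g.2 (mem_zpowers t)
      rw [mem_zpowers_iff_mem_range_orderOf, ht] at h2
      obtain ⟨i, hi, hi'⟩ := Finset.mem_image.1 h2
      rw [Finset.mem_range] at hi
      interval_cases i
      · rw [pow_zero, eq_comm, conj_eq_one_iff] at hi'
        rw [hi', orderOf_one] at ht
        omega
      · left; rw [← hi', pow_one]
      · right; exact hi'.symm)
  rw [index_bot, Finset.card_product, Finset.card_univ, ← Nat.card_eq_fintype_card] at h1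
  exact h1.trans (Nat.mul_le_mul_right _ Finset.card_le_two)

end Cfsg.Agent.PSL2Rec
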